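/-
A closed immersion of flat schemes is regular near a point with regular fibre local ring upstairs
iff the fibre local ring of the subscheme is a complete intersection.
-/
import Groth.Agent.Lib.RegImm26.CIFibres
import Groth.Agent.Lib.Goren15.Scheme
import Groth.Agent.S2890
import Groth.Prelude.Def_CInt

universe u

open CategoryTheory CategoryTheory.Limits AlgebraicGeometry TopologicalSpace RingTheory.Sequence IsLocalRing

set_option backward.isDefEq.respectTransparency.types false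

namespace Groth.Agent.CIFib11

open Groth.Agent.Goren15 (FibQuot)

variable {X Y S : Scheme.{u}}

theorem nonempty_fibQuot_openImm {U : Scheme.{u}} (j : U ⟶ X) [IsOpenImmersion j] (g : X ⟶ S) (u : U) :
    Nonempty (FibQuot g (j u) ≃+* FibQuot (j ≫ g) u) := by
  let e : X.presheaf.stalk (j u) ≃+* U.presheaf.stalk u := (asIso (j.stalkMap u)).commRingCatIsoToRingEquiv
  refine ⟨Ideal.quotientEquiv _ _ e ?_⟩
  have hc : ((j ≫ g).stalkMap u).hom = (e : _ →+* _).comp (g.stalkMap (j u)).hom := by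
    rw [Scheme.Hom.stalkMap_comp]; rfl
  rw [hc]
  exact (Ideal.map_map _ _).symm

theorem nonempty_fiberStalk_openImm {U : Scheme.{u}} (j : U ⟶ X) [IsOpenImmersion j] (g : X ⟶ S) (u : U) :
    Nonempty (CInt.fiberStalk g (j u) ≃+* CInt.fiberStalk (j ≫ g) u) := by
  obtain ⟨a⟩ := Goren15.nonempty_asFiberEquiv g (j u)
  obtain ⟨b⟩ := Goren15.nonempty_asFiberEquiv (j ≫ g) u
  obtain ⟨c⟩ := nonempty_fibQuot_openImm j g u
  exact ⟨a.symm.trans (c.trans b)⟩

theorem ci_congr_fibre {g : X ⟶ S} [LocallyOfFiniteType g] {x : X} {R : Type u} [CommRing R] [IsLocalRing R]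
    (e : CInt.fiberStalk g x ≃+* R) :
    Pi1.IsCompleteIntersection (CInt.fiberStalk g x) ↔ Pi1.IsCompleteIntersection R := by
  haveI := RegImm26.isLocallyNoetherian_fiber g (g x)
  haveI : IsNoetherianRing (CInt.fiberStalk g x) := inferInstance
  haveI : IsNoetherianRing R := isNoetherianRing_of_ringEquiv _ e
  exact ⟨CI2.ci_congr e, CI2.ci_congr e.symm⟩

theorem ci_fiberStalk_openImm {U : Scheme.{u}} (j : U ⟶ X) [IsOpenImmersion j] (g : X ⟶ S)
    [LocallyOfFiniteType g] (u : U) :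
    Pi1.IsCompleteIntersection (CInt.fiberStalk g (j u)) ↔
      Pi1.IsCompleteIntersection (CInt.fiberStalk (j ≫ g) u) := by
  obtain ⟨e⟩ := nonempty_fiberStalk_openImm j g u
  exact ci_congr_fibre e

theorem nonempty_fibre_stalk {g : X ⟶ S} {s : S} (z : g.fiber s) {x : X} (hz : g.fiberι s z = x) :
    Nonempty (CInt.fiberStalk g x ≃+* (g.fiber s).presheaf.stalk z) := by
  subst hz
  obtain ⟨a⟩ := Goren15.nonempty_asFiberEquiv g (g.fiberι s z)
  obtain ⟨b⟩ := Goren15.nonempty_fibreStalkEquiv g z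
  exact ⟨a.symm.trans b⟩

/-- Transversal regularity from the fibre at one point. -/
theorem regular_near_of_ci_fibre (g : X ⟶ S) [Flat g] [LocallyOfFinitePresentation g]
    (f : Y ⟶ X) [IsClosedImmersion f] [Flat (f ≫ g)] [LocallyOfFinitePresentation (f ≫ g)] (y : Y)
    [IsRegularLocalRing (CInt.fiberStalk g (f y))]
    (hci : Pi1.IsCompleteIntersection (CInt.fiberStalk (f ≫ g) y)) :
    ∃ V : X.Opens, f y ∈ V ∧ Mor2.IsRegularClosedImmersion (f ∣_ V) := by
  let I := f.ker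
  have e : f.toImage ≫ I.subschemeι ≫ g = f ≫ g := by rw [← Category.assoc, f.toImage_imageι]
  haveI : IsIso f.toImage := inferInstance
  haveI : Flat (I.subschemeι ≫ g) := by
    rw [← MorphismProperty.cancel_left_of_respectsIso @Flat f.toImage, e]; infer_instance
  haveI : LocallyOfFinitePresentation (I.subschemeι ≫ g) := by
    rw [← MorphismProperty.cancel_left_of_respectsIso @LocallyOfFinitePresentation f.toImage, e]; infer_instance
  let s := g (f y)
  let z := g.asFiber (f y)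
  have hz : g.fiberι s z = f y := g.fiberι_asFiber (f y)
  obtain ⟨w, hw1, hw2⟩ := Scheme.Pullback.exists_preimage_pullback (f := f) (g := g.fiberι s) y z hz.symm
  let j := pullback.snd f (g.fiberι s)
  haveI : IsClosedImmersion j := MorphismProperty.pullback_snd (P := @IsClosedImmersion) _ _ inferInstance
  let e : pullback f (g.fiberι s) ≅ (f ≫ g).fiber s := pullbackRightPullbackFstIso g (S.fromSpecResidueField s) f
  haveI := RegImm26.isLocallyNoetherian_fiber g s
  haveI := RegImm26.isLocallyNoetherian_fiber (f ≫ g) s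
  haveI : IsLocallyNoetherian (pullback f (g.fiberι s)) := isLocallyNoetherian_of_isOpenImmersion e.hom
  haveI : IsRegularLocalRing ((g.fiber s).presheaf.stalk (j w)) := by
    obtain ⟨a⟩ := nonempty_fibre_stalk (j w) (show g.fiberι s (j w) = f y by rw [hw2]; exact hz)
    exact IsRegularLocalRing.of_ringEquiv a
  have hw : Pi1.IsCompleteIntersection ((pullback f (g.fiberι s)).presheaf.stalk w) := by
    have hιe : (f ≫ g).fiberι s (e.hom w) = y := by
      rw [← Scheme.Hom.comp_apply]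
      exact (congrArg (fun q => q w) (pullbackRightPullbackFstIso_hom_fst g (S.fromSpecResidueField s) f)).trans hw1
    obtain ⟨a⟩ := nonempty_fibre_stalk (e.hom w) hιe
    exact (ci_congr_fibre (a.trans (asIso (e.hom.stalkMap w)).commRingCatIsoToRingEquiv)).1 hci
  obtain ⟨rs, hrs, hker⟩ := (CI2.ci_iff_ker (j.stalkMap w).hom (j.stalkMap_surjective w)).1 hw
  obtain ⟨V, hV, -, hreg⟩ := (RegImm26.regular_near_iff j w).2 ⟨rs, hrs, hker.symm⟩
  obtain ⟨W, hW, hwW, l, hl, hlker⟩ := hreg ⟨w, hV⟩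
  have hU : IsAffineOpen (V.ι ''ᵁ W) := hW.image_of_isOpenImmersion V.ι
  have hwU : j w ∈ V.ι ''ᵁ W := ⟨_, hwW, morphismRestrict_base_coe j V ⟨w, hV⟩⟩
  rw [Scheme.Hom.ker_apply, RegImm26.ker_restrict_app] at hlker
  obtain ⟨-, U, -, hyU, rs, hrs, hI, -⟩ := RegImm26.exists_regular_of_fibre g I z (Flat.stalkMap g _)
    (by rw [hz]; exact f.range_subset_ker_support ⟨y, rfl⟩)
    ⟨⟨V.ι ''ᵁ W, hU⟩, hw2 ▸ hwU, l, hl.toIsWeaklyRegular, by
      rw [← RegImm26.ker_snd_eq f (g.fiberι s), Scheme.Hom.ker_apply]; exact hlker⟩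
  rw [hz] at hyU
  refine ⟨U.1, hyU, IsZariskiLocalAtTarget.restrict (P := @IsClosedImmersion) ‹_› U.1, fun _ => ?_⟩
  haveI : IsAffine (U.1 : Scheme.{u}) := U.2
  have key : ∀ V' : X.Opens, V' = U.1 → ∃ l' : List Γ(X, V'), IsRegular Γ(X, V') l' ∧
      RingHom.ker (f.app V').hom = Ideal.ofList l' := fun V' e => by
    subst e; exact ⟨rs, hrs, (Scheme.Hom.ker_apply f U).symm.trans hI⟩
  obtain ⟨l', hlr', hlker'⟩ := key _ U.1.ι_image_top
  refine ⟨⊤, isAffineOpen_top _, trivial, l', hlr', ?_⟩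
  rw [Scheme.Hom.ker_apply, RegImm26.ker_restrict_app]
  exact hlker'

theorem ci_fibre_of_regular (g : X ⟶ S) [LocallyOfFinitePresentation g]
    (f : Y ⟶ X) [IsClosedImmersion f] [Flat (f ≫ g)] [LocallyOfFinitePresentation (f ≫ g)] (y : Y)
    [IsRegularLocalRing (CInt.fiberStalk g (f y))]
    (hreg : Mor2.IsRegularClosedImmersion f) :
    Pi1.IsCompleteIntersection (CInt.fiberStalk (f ≫ g) y) := by
  let s := (f ≫ g) y
  obtain ⟨-, -, hfib⟩ := (S2890.result f g).1 ⟨inferInstance, hreg⟩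
  have hm := hfib s
  haveI : IsClosedImmersion (CInt.fiberMap f g s) := hm.1
  let w := (f ≫ g).asFiber y
  have hι : g.fiberι s (CInt.fiberMap f g s w) = f y := by
    have h1 : CInt.fiberMap f g s ≫ g.fiberι s = (f ≫ g).fiberι s ≫ f := pullback.lift_fst _ _ _
    rw [← Scheme.Hom.comp_apply, h1, Scheme.Hom.comp_apply, (f ≫ g).fiberι_asFiber]
  haveI : IsRegularLocalRing ((g.fiber s).presheaf.stalk (CInt.fiberMap f g s w)) := by
    obtain ⟨a⟩ := nonempty_fibre_stalk _ hι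
    exact IsRegularLocalRing.of_ringEquiv a
  haveI := RegImm26.isLocallyNoetherian_fiber g s
  haveI := RegImm26.isLocallyNoetherian_fiber (f ≫ g) s
  obtain ⟨rs, hrs, hker⟩ := (RegImm26.regular_near_iff (CInt.fiberMap f g s) w).1
    ⟨⊤, trivial, restrict_top _ hm⟩
  exact (CI2.ci_iff_ker ((CInt.fiberMap f g s).stalkMap w).hom
    ((CInt.fiberMap f g s).stalkMap_surjective w)).2 ⟨rs, hrs, hker.symm⟩
where
  restrict_top {P Q : Scheme.{u}} (i : P ⟶ Q) (h : Mor2.IsRegularClosedImmersion i) :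
      Mor2.IsRegularClosedImmersion (i ∣_ ⊤) := by
    haveI := h.1
    haveI : IsClosedImmersion (i ∣_ ⊤) := IsZariskiLocalAtTarget.restrict (P := @IsClosedImmersion) h.1 ⊤
    refine (RegImm26.regularClosedImmersion_iff _).2 ⟨inferInstance, ?_⟩
    exact RegSeq26.isRegularImmersion_baseChange .regular i (⊤ : Q.Opens).ι (i ∣_ ⊤) (i ⁻¹ᵁ ⊤).ι
      (isPullback_morphismRestrict i ⊤).flip ((RegImm26.regularClosedImmersion_iff i).1 h).2

/-- The pointwise criterion. -/
theorem regular_near_iff_ci_fibre (g : X ⟶ S) [Flat g] [LocallyOfFinitePresentation g]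
    (f : Y ⟶ X) [IsClosedImmersion f] [Flat (f ≫ g)] [LocallyOfFinitePresentation (f ≫ g)] (y : Y)
    [IsRegularLocalRing (CInt.fiberStalk g (f y))] :
    (∃ V : X.Opens, f y ∈ V ∧ Mor2.IsRegularClosedImmersion (f ∣_ V)) ↔
      Pi1.IsCompleteIntersection (CInt.fiberStalk (f ≫ g) y) := by
  refine ⟨?_, regular_near_of_ci_fibre g f y⟩
  rintro ⟨V, hV, hreg⟩
  haveI := hreg.1
  have hc : (f ∣_ V) ≫ V.ι ≫ g = (f ⁻¹ᵁ V).ι ≫ (f ≫ g) := by
    rw [morphismRestrict_ι_assoc]
  haveI : Flat ((f ∣_ V) ≫ V.ι ≫ g) := by rw [hc]; infer_instance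
  haveI : LocallyOfFinitePresentation ((f ∣_ V) ≫ V.ι ≫ g) := by rw [hc]; infer_instance
  let y' : (f ⁻¹ᵁ V : Scheme.{u}) := ⟨y, hV⟩
  haveI : IsRegularLocalRing (CInt.fiberStalk (V.ι ≫ g) ((f ∣_ V) y')) := by
    obtain ⟨a⟩ := nonempty_fiberStalk_openImm V.ι g ((f ∣_ V) y')
    have hy : V.ι ((f ∣_ V) y') = f y := morphismRestrict_base_coe f V y'
    revert a
    rw [hy]
    intro a
    exact IsRegularLocalRing.of_ringEquiv a
  have h := ci_fibre_of_regular (V.ι ≫ g) (f ∣_ V) y' hreg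
  have h2 : ∀ q : (f ⁻¹ᵁ V : Scheme.{u}) ⟶ S, q = (f ⁻¹ᵁ V).ι ≫ (f ≫ g) →
      Pi1.IsCompleteIntersection (CInt.fiberStalk q y') →
      Pi1.IsCompleteIntersection (CInt.fiberStalk ((f ⁻¹ᵁ V).ι ≫ (f ≫ g)) y') := by
    rintro q rfl h; exact h
  exact (ci_fiberStalk_openImm (f ⁻¹ᵁ V).ι (f ≫ g) y').2 (h2 _ hc h)

end Groth.Agent.CIFib11
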